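import Groth.Agent.DepthAlong.Basic
import Groth.Agent.FlatSerre.Localize

/-!
# `depth_{I A_q} M_q` as an infimum of local depths
-/

universe u

namespace Groth.Agent.DepthAlong

open LocCoh DepthLib OpenLoci

variable {A : Type u} [CommRing A] [IsNoetherianRing A]

theorem natCast_le_inf_iff_idealDepth (M : Type u) [AddCommGroup M] [Module A M] [Module.Finite A M] (I q : Ideal A)
    [q.IsPrime] (n : ℕ) :
    (n : ℕ∞) ≤ idealDepth (I.map (algebraMap A (Localization.AtPrime q))) (LocalizedModule q.primeCompl M) ↔
      (n : ℕ∞) ≤ inf M I q := by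
  haveI : Module.Finite (Localization.AtPrime q) (LocalizedModule q.primeCompl M) :=
    Module.Finite.of_isLocalizedModule q.primeCompl (LocalizedModule.mkLinearMap q.primeCompl M)
  rw [natCast_le_idealDepth_iff_forall_localization, le_inf_iff]
  refine ⟨fun h p _ hpq hIp => ?_, fun h Q _ hQ => ?_⟩
  · have hd : Disjoint (q.primeCompl : Set A) p := Set.disjoint_left.mpr fun x hx hxp => hx (hpq hxp)
    haveI := IsLocalization.isPrime_of_isPrime_disjoint q.primeCompl (Localization.AtPrime q) p ‹_› hd
    have h1 := h (p.map (algebraMap A (Localization.AtPrime q))) (Ideal.map_mono hIp)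
    rwa [(FlatSerre.invariants_localized_twice M q _ p
      (IsLocalization.comap_map_of_isPrime_disjoint q.primeCompl (Localization.AtPrime q) ‹_› hd)).1] at h1
  · rw [(FlatSerre.invariants_localized_twice M q Q _ rfl).1]
    exact h _ ((Ideal.comap_mono (IsLocalRing.le_maximalIdeal (Ideal.IsPrime.ne_top ‹_›))).trans
      Localization.AtPrime.under_maximalIdeal.le) (Ideal.map_le_iff_le_comap.mp hQ)

end Groth.Agent.DepthAlong
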